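import Cfsg.Agent.H774.K0.Six
import Cfsg.Agent.S0914
import Cfsg.Agent.S0960
import Cfsg.Agent.SmallSimple.SylowPrimeCount
set_option linter.all false

/-!
# `k_0(B_0)` for Sylow subgroups of order `1` and `p`
-/

set_option autoImplicit false

open Cfsg

namespace Cfsg.Agent.H774.K0

open Cfsg.Agent.Characters.Core Cfsg.Agent.Blocks Cfsg.Agent.Blocks.Basic
open Cfsg.Agent.H703.Lat

variable {G : Type*} [Group G] [Finite G] {p : ℕ} {M : Ideal AlgInt}

/-- the number of characters of degree prime to `p` in the principal block -/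
noncomputable def k0 (p : ℕ) (M : Ideal AlgInt) (G : Type*) [Group G] : ℕ :=
  Nat.card {χ : IrrCharacter G // χ ∈ principalBlock M G ∧ ¬ p ∣ charDegree (χ : G → ℂ)}

theorem k0_pos (hM : IsPModular p M) : 0 < k0 p M G := by
  have := finite_irr (G := G)
  have : Nonempty {χ : IrrCharacter G // χ ∈ principalBlock M G ∧ ¬ p ∣ charDegree (χ : G → ℂ)} :=
    ⟨⟨⟨fun _ => 1, isIrrCharacter_one⟩, mem_B0.1 (one_mem_B0 hM), by
      rw [charDegree_one, Nat.dvd_one]; exact hM.1.ne_one⟩⟩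
  exact Nat.card_pos

/-- `k_0(B_0) = 1` if `p` does not divide the group order. -/
theorem k0_eq_one [Fact p.Prime] (hM : IsPModular p M) (h : ¬ p ∣ Nat.card G) : k0 p M G = 1 := by
  have := finite_irr (G := G)
  set one : IrrCharacter G := ⟨fun _ => 1, isIrrCharacter_one⟩ with hone
  have h1 := (S0914.result p M hM one).1 (by rw [charDegree_one, Nat.div_one]; exact h)
  have h2 : ∀ χ : IrrCharacter G, χ ∈ principalBlock M G → χ = one := fun χ hχ => by
    have : χ ∈ blockOf M (one : G → ℂ) := hχ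
    rw [h1] at this
    exact this
  apply le_antisymm
  · rw [k0]
    have : Subsingleton {χ : IrrCharacter G // χ ∈ principalBlock M G ∧ ¬ p ∣ charDegree (χ : G → ℂ)} :=
      ⟨fun a b => Subtype.ext ((h2 a.1 a.2.1).trans (h2 b.1 b.2.1).symm)⟩
    exact Finite.card_le_one_iff_subsingleton.2 this
  · exact k0_pos hM

/-- `k_0(B_0) = e + (p - 1) / e` and `e ∣ p - 1` if the Sylow `p`-subgroup has order `p`. -/
theorem k0_of_card_eq_prime [Fact p.Prime] (hM : IsPModular p M) (hodd : p ≠ 2) (P : Sylow p G)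
    (hP : Nat.card P = p) {e : ℕ}
    (he : (Subgroup.centralizer ((P : Subgroup G) : Set G)).relIndex
      (Subgroup.normalizer ((P : Subgroup G) : Set G)) = e) :
    e ∣ p - 1 ∧ k0 p M G = e + (p - 1) / e := by
  have hp : p.Prime := Fact.out
  have h1 := S0960.result p M hM hodd P hP e he
  have h2 : e ∣ p - 1 := by
    rw [← he]
    exact SmallSimple.SylowPrimeCount.relIndex_dvd_pred hp hP
  refine ⟨h2, ?_⟩
  rw [← h1.1, k0]
  have hp1 : 0 < p - 1 := by have := hp.two_le; omega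
  have he0 : 0 < e := Nat.pos_of_dvd_of_pos h2 hp1
  have hep : e < p := by have := Nat.le_of_dvd hp1 h2; omega
  have hpe : ¬ (p : ℤ) ∣ (e : ℤ) := by
    intro h
    have := Nat.le_of_dvd he0 (Int.natCast_dvd_natCast.1 h)
    omega
  have hp1' : ¬ (p : ℤ) ∣ 1 := by
    intro h
    have := Int.le_of_dvd one_pos h
    have := hp.two_le
    omega
  refine Nat.card_congr (Equiv.subtypeEquivRight fun χ => ⟨fun h => h.1, fun h => ⟨h, fun hd => ?_⟩⟩)
  have hd' : (p : ℤ) ∣ (charDegree (χ : G → ℂ) : ℤ) := Int.natCast_dvd_natCast.2 hd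
  rcases h1.2 χ h with h3 | h3 | h3 | h3
  · exact hp1' ((Int.ModEq.dvd_iff h3).1 hd')
  · exact hp1' (Int.dvd_neg.1 ((Int.ModEq.dvd_iff h3).1 hd'))
  · exact hpe ((Int.ModEq.dvd_iff h3).1 hd')
  · exact hpe (Int.dvd_neg.1 ((Int.ModEq.dvd_iff h3).1 hd'))

/-- If `p` is odd and `k_0(B_0) ≤ 5` then a Sylow `p`-subgroup has order `1` or `p`. -/
theorem card_of_k0_le [Fact p.Prime] (hM : IsPModular p M) (hodd : p ≠ 2) (hk : k0 p M G ≤ 5)
    (P : Sylow p G) : ¬ p ∣ Nat.card G ∨ Nat.card P = p := by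
  have hp : p.Prime := Fact.out
  by_cases h1 : p ∣ Nat.card G
  · right
    have h2 : ¬ p ^ 2 ∣ Nat.card G := fun h => by
      have := six_le_card hodd hM h
      rw [k0] at hk
      omega
    have h3 : (Nat.card G).factorization p = 1 := by
      apply le_antisymm
      · by_contra hcon
        push Not at hcon
        exact h2 ((hp.pow_dvd_iff_le_factorization Nat.card_pos.ne').2 hcon)
      · exact (hp.dvd_iff_one_le_factorization Nat.card_pos.ne').1 h1
    rw [P.card_eq_multiplicity, h3, pow_one]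
  · exact Or.inl h1

/-- for `p = 2`, `k_0(B_0)` is even unless the group has odd order -/
theorem even_k0 {M : Ideal AlgInt} (hM : IsPModular 2 M) (h : 2 ∣ Nat.card G) : 2 ∣ k0 2 M G := by
  classical
  rw [k0, natCard_hz]
  obtain ⟨r, hr⟩ := dvd_sum_sq hM (good_principal (G := G) hM) (a := 1) (by simpa using h)
  rw [pow_one] at hr
  have h1 : ∑ χ ∈ B0 M G, (charDegree (χ : G → ℂ) : ℤ) ^ 2 =
      ∑ χ ∈ hz 2 (B0 M G), (charDegree (χ : G → ℂ) : ℤ) ^ 2 +
      ∑ χ ∈ (B0 M G).filter (fun χ : IrrCharacter G => ¬ ¬ 2 ∣ charDegree (χ : G → ℂ)),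
        (charDegree (χ : G → ℂ) : ℤ) ^ 2 := by
    unfold hz
    rw [Finset.sum_filter_add_sum_filter_not]
  have h2 : (2 : ℤ) ∣ ∑ χ ∈ (B0 M G).filter (fun χ : IrrCharacter G => ¬ ¬ 2 ∣ charDegree (χ : G → ℂ)),
        (charDegree (χ : G → ℂ) : ℤ) ^ 2 :=
    Finset.dvd_sum fun χ hχ => dvd_pow
      (Int.natCast_dvd_natCast.2 (not_not.1 (Finset.mem_filter.1 hχ).2)) two_ne_zero
  have h3 : (2 : ℤ) ∣ ∑ χ ∈ hz 2 (B0 M G), ((charDegree (χ : G → ℂ) : ℤ) ^ 2 - 1) :=
    Finset.dvd_sum fun χ hχ => by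
      have h4 := (mem_hz.1 hχ).2
      have h5 : Odd (charDegree (χ : G → ℂ)) := Nat.not_even_iff_odd.1 fun h6 => h4 h6.two_dvd
      obtain ⟨k, hk⟩ := h5
      rw [hk]
      exact ⟨2 * k ^ 2 + 2 * k, by push_cast; ring⟩
  rw [Finset.sum_sub_distrib, Finset.sum_const, nsmul_eq_mul, mul_one] at h3
  have h6 : (2 : ℤ) ∣ ((hz 2 (B0 M G)).card : ℤ) := by
    rw [h1] at hr
    push_cast at hr
    omega
  exact_mod_cast h6

end Cfsg.Agent.H774.K0
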